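import Cfsg.Agent.Lib.BenderTrans.Semireg.Defs
import Cfsg.Agent.Lib.Hall.Pi

/-!
The inverted Hall subgroup of a two point stabiliser: for the primes dividing the number of
involutions with a given centre it is cyclic, normal, inverted by every swapper, and its nontrivial
elements fix only the two points.
-/

set_option autoImplicit false

namespace CfsgLib.BenderTrans

open CfsgLib.Involutions CfsgLib.OddOrder MulAction
open scoped Pointwise

universe u

variable {G : Type u} [Group G] [Finite G] {Ω : Type u} [MulAction G Ω] [Finite Ω]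

/-- A Hall subgroup invariant under an involution normalising the group. -/
theorem exists_invariant_piHall {D : Subgroup G} [Group.IsSolvable D] (hodd : Odd (Nat.card D)) {s : G}
    (hs : orderOf s = 2) (hn : s ∈ Subgroup.normalizer (D : Set G)) (π : Set ℕ) :
    ∃ W : Subgroup G, W ≤ D ∧ s ∈ Subgroup.normalizer (W : Set G) ∧
      (∀ p : ℕ, p.Prime → p ∣ Nat.card W → p ∈ π) ∧
      ∀ p : ℕ, p.Prime → p ∈ π → ¬ p ∣ W.relIndex D := by
  obtain ⟨W₀, hW₀⟩ := Hall.exists_isPiHall (G := D) π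
  set W : Subgroup G := W₀.map D.subtype with hW
  have hle : W ≤ D := Subgroup.map_subtype_le _
  have hconj : ∀ a ∈ Subgroup.zpowers s,
      ∃ k ∈ D, k⁻¹ * a ∈ Subgroup.normalizer (W : Set G) := by
    intro a ha
    have haD : a ∈ Subgroup.normalizer (D : Set G) := Subgroup.zpowers_le.2 hn ha
    let φ : D ≃* D := D.normalizerMonoidHom ⟨a, haD⟩
    have h1 : Cfsg.IsPiHall π (W₀.map φ.toMonoidHom) := by
      have hc : Nat.card (W₀.map φ.toMonoidHom) = Nat.card W₀ :=
        (Nat.card_congr (φ.subgroupMap W₀).toEquiv).symm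
      have hi : (W₀.map φ.toMonoidHom).index = W₀.index := by
        have h2 := (W₀.map φ.toMonoidHom).card_mul_index
        rw [hc, ← W₀.card_mul_index] at h2
        exact Nat.eq_of_mul_eq_mul_left Nat.card_pos h2
      exact ⟨fun p hp hd => hW₀.1 p hp (hc ▸ hd), fun p hp hπ hd => hW₀.2 p hp hπ (hi ▸ hd)⟩
    obtain ⟨k, hk⟩ := Hall.isPiHall_conj hW₀ h1
    refine ⟨k, k.2, Coprime.mem_normalizer_of_forall_conj fun x hx => ?_⟩
    obtain ⟨x', hx', rfl⟩ := hx
    have hmem : φ x' ∈ MulAut.conj k • W₀ := hk.symm ▸ Subgroup.mem_map_of_mem φ.toMonoidHom hx'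
    rw [Coprime.mem_conj_smul] at hmem
    refine ⟨_, hmem, ?_⟩
    show (((k⁻¹ * φ x' * k : D)) : G) = (k : G)⁻¹ * a * (x' : G) * ((k : G)⁻¹ * a)⁻¹
    rw [show ((k⁻¹ * φ x' * k : D) : G) = (k : G)⁻¹ * (a * x' * a⁻¹) * k from rfl]
    group
  obtain ⟨x, hx, hS⟩ := Coprime.exists_conj_mem_of_forall_mul (Subgroup.zpowers s) D
    (zpowers_le_normalizer hn) (coprime_zpowers hodd hs) (Or.inl (solvable_zpowers s))
    (Subgroup.normalizer (W : Set G)) hconj
  have hWs : s ∈ Subgroup.normalizer ((W.map (MulAut.conj x⁻¹).toMonoidHom : Subgroup G) : Set G) := by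
    refine Subgroup.le_normalizer_map (MulAut.conj x⁻¹).toMonoidHom
      ⟨x * s * x⁻¹, hS s (Subgroup.mem_zpowers s), ?_⟩
    simp [MulAut.conj_apply, mul_assoc]
  have hle' : W.map (MulAut.conj x⁻¹).toMonoidHom ≤ D := by
    rintro _ ⟨v, hv, rfl⟩
    exact D.mul_mem (D.mul_mem (D.inv_mem hx) (hle hv)) (by simpa using hx)
  have hcard : Nat.card (W.map (MulAut.conj x⁻¹).toMonoidHom) = Nat.card W₀ := by
    rw [Subgroup.card_map_of_injective (MulAut.conj x⁻¹).injective, hW,
      Subgroup.card_map_of_injective D.subtype_injective]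
  refine ⟨_, hle', hWs, fun p hp hd => hW₀.1 p hp (hcard ▸ hd), fun p hp hπ hd => hW₀.2 p hp hπ ?_⟩
  have h2 := Subgroup.relIndex_mul_relIndex ⊥ _ D bot_le hle'
  rw [Subgroup.relIndex_bot_left, Subgroup.relIndex_bot_left, hcard, ← W₀.card_mul_index] at h2
  rwa [Nat.eq_of_mul_eq_mul_left Nat.card_pos h2] at hd

variable (h : OneFix G Ω)
include h

/-- The inverted Hall subgroup of a two point stabiliser. -/
theorem exists_hall {c y : Ω} (hne : y ≠ c) (hP : PairFacts (G := G) c y)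
    (hodd : ∀ X : Type u, ∀ _ : Group X, ∀ _ : Finite X, Odd (Nat.card X) → Group.IsSolvable X) :
    ∃ Z : Subgroup G, Z ≤ two G c y ∧ two G c y ≤ Subgroup.normalizer (Z : Set G) ∧ IsCyclic Z ∧
      (∀ s ∈ swaps G c y, ∀ z ∈ Z, s * z * s⁻¹ = z⁻¹) ∧
      (∀ p : ℕ, p.Prime → p ∣ (invAt G c).ncard → ¬ p ∣ Z.relIndex (two G c y)) ∧
      (∀ p : ℕ, p.Prime → p ∣ Nat.card Z → p ∣ (invAt G c).ncard) ∧
      (∀ z ∈ Z, z ≠ 1 → ∀ x : Ω, z • x = x → x = c ∨ x = y) := by
  have hcy : c ≠ y := Ne.symm hne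
  obtain ⟨t₀, ht₀⟩ := h.exists_invAt c
  obtain ⟨t₁, ht₁⟩ := h.exists_invAt y
  obtain ⟨s, hs, -, -⟩ := h.exists_mid ht₀ ht₁ hcy
  have hm : (invAt G c).ncard ≠ 0 :=
    Set.ncard_ne_zero_of_mem ht₀ (Set.toFinite _)
  set D := two G c y with hD
  have hDodd := h.odd_two hcy
  haveI : Group.IsSolvable D := hodd D inferInstance inferInstance hDodd
  have hs2 : s * s = 1 := mul_self_eq_one hs.1
  have hsn := OneFix.swap_normalizes (G := G) hs
  obtain ⟨W, hWD, hWn, hWπ, hWidx⟩ :=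
    exists_invariant_piHall hDodd hs.1 hsn {p | p ∣ (invAt G c).ncard}
  have hWodd : Odd (Nat.card W) := hDodd.of_dvd_nat (Subgroup.card_dvd_of_le hWD)
  -- invariant Sylow subgroups of `W` are invariant Sylow subgroups of `D`
  have hsyl : ∀ p : ℕ, p.Prime → p ∣ (invAt G c).ncard → ∀ P : Subgroup G, SylowOf p P W →
      s ∈ Subgroup.normalizer (P : Set G) →
      IsCyclic P ∧ (∀ x ∈ P, s * x * s⁻¹ = x⁻¹) ∧ Nat.card P = qpart G c p ∧
        ∀ x ∈ P, x ≠ 1 → ∀ z : Ω, x • z = z → z = c ∨ z = y := by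
    intro p hp hpm P hPW hPn
    have : Fact p.Prime := ⟨hp⟩
    refine hP p hp hpm s hs P ?_ hPn
    refine ⟨hPW.1.trans hWD, hPW.2.1, fun R hRD hR hPR => ?_⟩
    refine (Subgroup.eq_of_le_of_card_ge hPR ?_).symm
    obtain ⟨T, hT, -⟩ := exists_sylowOf_ge (p := p) (bot_le : (⊥ : Subgroup G) ≤ D) IsPGroup.of_bot
    have h1 := Nat.le_of_dvd Nat.card_pos (hT.card_dvd hRD hR)
    rw [card_sylowOf hT] at h1
    rw [card_sylowOf hPW]
    refine h1.trans (le_of_eq ?_)
    have h2 := Subgroup.relIndex_mul_relIndex ⊥ W D bot_le hWD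
    rw [Subgroup.relIndex_bot_left, Subgroup.relIndex_bot_left] at h2
    rw [← h2, Nat.factorization_mul Nat.card_pos.ne'
      (fun e => Nat.card_pos.ne' (h2 ▸ (by rw [e, mul_zero]) : Nat.card D = 0)), Finsupp.add_apply,
      Nat.factorization_eq_zero_of_not_dvd (hWidx p hp hpm), add_zero]
  -- `s` inverts `W`
  have hinv : ∀ w ∈ W, s * w * s⁻¹ = w⁻¹ := by
    let φ : W →* W :=
      { toFun := fun w => ⟨s * (w : G) * s⁻¹, (Subgroup.mem_normalizer_iff.1 hWn w).1 w.2⟩
        map_one' := Subtype.ext (by simp)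
        map_mul' := fun a b => Subtype.ext (by simp [mul_assoc]) }
    have hfree : MonoidHom.FixedPointFree φ := by
      intro w hw
      by_contra hw1
      have hne1 : orderOf (w : G) ≠ 1 := fun e => hw1 (Subtype.ext (orderOf_eq_one_iff.1 e))
      obtain ⟨p, hp, hpw⟩ := Nat.exists_prime_and_dvd hne1
      have : Fact p.Prime := ⟨hp⟩
      set v := (w : G) ^ (orderOf (w : G) / p) with hv
      have hvo : orderOf v = p := by
        have hd : orderOf (w : G) / p ∣ orderOf (w : G) := Nat.div_dvd_of_dvd hpw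
        rw [hv, orderOf_pow_of_dvd
          (Nat.div_pos (Nat.le_of_dvd (orderOf_pos _) hpw) hp.pos).ne' hd]
        exact Nat.div_div_self hpw (orderOf_pos _).ne'
      have hvW : v ∈ W := pow_mem w.2 _
      have hpW : p ∣ Nat.card W := hvo ▸ Subgroup.orderOf_dvd_natCard W hvW
      have hsw : Commute s (w : G) := mul_inv_eq_iff_eq_mul.1 (congrArg Subtype.val hw)
      have hsv : Commute s v := hsw.pow_right _
      obtain ⟨P, hPW, hvP, hPn⟩ := exists_invariant_sylowOf_ge hWodd hs.1 hWn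
        (Subgroup.zpowers_le.2 hvW)
        (IsPGroup.of_card (p := p) (n := 1) (by rw [Nat.card_zpowers, hvo, pow_one]))
        (Coprime.mem_normalizer_of_forall_conj fun x hx => by
          obtain ⟨i, rfl⟩ := Subgroup.mem_zpowers_iff.1 hx
          rw [(hsv.zpow_right i).eq, mul_inv_cancel_right]
          exact zpow_mem (Subgroup.mem_zpowers v) i)
      have h1 := (hsyl p hp (hWπ p hp hpW) P hPW hPn).2.1 v (hvP (Subgroup.mem_zpowers v))
      rw [hsv.eq, mul_inv_cancel_right] at h1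
      have h2 : v ^ 2 = 1 := by rw [pow_two]; nth_rewrite 1 [h1]; rw [inv_mul_cancel]
      have hp2 : p = 2 := (Nat.prime_dvd_prime_iff_eq hp Nat.prime_two).1
        (hvo ▸ orderOf_dvd_of_pow_eq_one h2)
      exact Nat.not_even_iff_odd.2 hWodd (even_iff_two_dvd.2 (hp2 ▸ hpW))
    have hinvol : Function.Involutive φ := fun w => Subtype.ext (by
      show s * (s * (w : G) * s⁻¹) * s⁻¹ = w
      calc s * (s * (w : G) * s⁻¹) * s⁻¹ = (s * s) * w * (s * s)⁻¹ := by group
        _ = w := by rw [hs2, one_mul, inv_one, mul_one])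
    intro w hw
    have := congrFun (hfree.coe_eq_inv_of_involutive hinvol) ⟨w, hw⟩
    exact congrArg Subtype.val this
  have hWcomm : ∀ a ∈ W, ∀ b ∈ W, Commute a b := by
    intro a ha b hb
    have h1 := hinv _ (W.mul_mem ha hb)
    have h2 : s * (a * b) * s⁻¹ = (s * a * s⁻¹) * (s * b * s⁻¹) := by group
    rw [h2, hinv a ha, hinv b hb, ← mul_inv_rev, inv_inj] at h1
    exact h1.symm
  -- the order of `W`
  have hcard : Nat.card W = (invAt G c).ncard := by
    refine Nat.eq_of_factorization_eq Nat.card_pos.ne' hm fun p => ?_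
    by_cases hp : p.Prime
    swap
    · simp [Nat.factorization_eq_zero_of_not_prime _ hp]
    by_cases hpm : p ∣ (invAt G c).ncard
    · have : Fact p.Prime := ⟨hp⟩
      obtain ⟨P, hPW, -, hPn⟩ := exists_invariant_sylowOf_ge (q := p) hWodd hs.1 hWn
        (bot_le : (⊥ : Subgroup G) ≤ W) IsPGroup.of_bot
        (Coprime.mem_normalizer_of_forall_conj fun x hx => by
          rw [Subgroup.mem_bot] at hx ⊢; rw [hx, mul_one, mul_inv_cancel])
      have h1 := (hsyl p hp hpm P hPW hPn).2.2.1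
      rw [card_sylowOf hPW, qpart] at h1
      exact Nat.pow_right_injective hp.two_le h1
    · rw [Nat.factorization_eq_zero_of_not_dvd hpm,
        Nat.factorization_eq_zero_of_not_dvd fun e => hpm (hWπ p hp e)]
  -- the swappers are the translates of `s` by `W`
  have hsw : ∀ t : G, t ∈ swaps G c y → ∃ w ∈ W, t = w⁻¹ * s * w := by
    let φ : W → swaps G c y := fun w => ⟨(w : G)⁻¹ * s * w, by
      have h1 := conj_mem_swaps (g := (w : G)⁻¹) hs
      have hw := mem_two_iff.1 (hWD w.2)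
      rwa [inv_inv, inv_smul_eq_iff.2 hw.1.symm, inv_smul_eq_iff.2 hw.2.symm] at h1⟩
    have hinj : Function.Injective φ := by
      intro a b e
      have e' : (a : G)⁻¹ * s * a = (b : G)⁻¹ * s * b := congrArg Subtype.val e
      have h1 : ∀ w ∈ W, w⁻¹ * s * w = s * (w * w) := fun w hw => by
        calc w⁻¹ * s * w = (s * w * s⁻¹) * s * w := by rw [hinv w hw]
          _ = _ := by group
      rw [h1 _ a.2, h1 _ b.2] at e'
      have e2 := mul_left_cancel e'
      have h3 : ((a : G) * (b : G)⁻¹) ^ 2 = 1 := by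
        rw [((hWcomm _ a.2 _ b.2).inv_right).mul_pow, pow_two, inv_pow, pow_two, e2, mul_inv_cancel]
      have hodd' : Odd (orderOf ((a : G) * (b : G)⁻¹)) :=
        hWodd.of_dvd_nat (Subgroup.orderOf_dvd_natCard W (W.mul_mem a.2 (W.inv_mem b.2)))
      have h4 := (Nat.dvd_prime Nat.prime_two).1 (orderOf_dvd_of_pow_eq_one h3)
      rcases h4 with h4 | h4
      · exact Subtype.ext (mul_inv_eq_one.1 (orderOf_eq_one_iff.1 h4))
      · rw [h4] at hodd'; exact absurd hodd' (by decide)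
    have hbij : Function.Bijective φ := hinj.bijective_of_nat_card_le (by
      rw [Nat.card_coe_set_eq, h.ncard_swaps hcy, hcard, h.ncard_invAt_eq c y])
    intro t ht
    obtain ⟨w, hw⟩ := hbij.2 ⟨t, ht⟩
    exact ⟨w, w.2, (congrArg Subtype.val hw).symm⟩
  have hinv' : ∀ t ∈ swaps G c y, ∀ z ∈ W, t * z * t⁻¹ = z⁻¹ := by
    intro t ht z hz
    obtain ⟨w, hw, rfl⟩ := hsw t ht
    have h1 : w * z * w⁻¹ = z := by rw [(hWcomm w hw z hz).eq, mul_inv_cancel_right]
    calc w⁻¹ * s * w * z * (w⁻¹ * s * w)⁻¹ = w⁻¹ * (s * (w * z * w⁻¹) * s⁻¹) * w := by group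
      _ = w⁻¹ * z⁻¹ * w := by rw [h1, hinv z hz]
      _ = z⁻¹ := by rw [mul_assoc, (hWcomm z hz w hw).inv_left.eq, inv_mul_cancel_left]
  -- an element inverted by a swapper lies in `W`
  have hmem : ∀ t ∈ swaps G c y, ∀ X ∈ D, t * X * t⁻¹ = X⁻¹ → X ∈ W := by
    intro t ht X hX hXt
    have ht2 : t * t = 1 := mul_self_eq_one ht.1
    have hXsw : t * X ∈ swaps G c y := by
      refine ⟨orderOf_eq_two_iff_mul.2 ⟨fun e => ?_, ?_⟩, by
        rw [mul_smul, (mem_two_iff.1 hX).1, ht.2]⟩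
      · have h1 : t ∈ stabilizer G c := by
          rw [eq_inv_of_mul_eq_one_left e]; exact (stabilizer G c).inv_mem hX.1
        exact hne (by rw [← ht.2]; exact h1)
      · rw [inv_eq_self_of_involution ht.1] at hXt
        calc t * X * (t * X) = (t * X * t) * X := by group
          _ = 1 := by rw [hXt, inv_mul_cancel]
    obtain ⟨w, hw, hwt⟩ := hsw t ht
    obtain ⟨v, hv, hvt⟩ := hsw _ hXsw
    have hws : ∀ u ∈ W, u⁻¹ * s * u = s * (u * u) := fun u hu => by
      calc u⁻¹ * s * u = (s * u * s⁻¹) * s * u := by rw [hinv u hu]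
        _ = _ := by group
    rw [hws w hw] at hwt
    rw [hws v hv, hwt, mul_assoc] at hvt
    have := mul_left_cancel hvt
    rw [← eq_inv_mul_iff_mul_eq] at this
    rw [this]
    exact W.mul_mem (W.inv_mem (W.mul_mem hw hw)) (W.mul_mem hv hv)
  have hnorm : D ≤ Subgroup.normalizer (W : Set G) := by
    refine Subgroup.le_normalizer_iff.2 fun d hd z hz => ?_
    have ht : d * s * d⁻¹ ∈ swaps G c y := by
      have h1 := conj_mem_swaps (g := d) hs
      rwa [(mem_two_iff.1 hd).1, (mem_two_iff.1 hd).2] at h1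
    refine hmem _ ht _ (D.mul_mem (D.mul_mem hd (hWD hz)) (D.inv_mem hd)) ?_
    calc d * s * d⁻¹ * (d * z * d⁻¹) * (d * s * d⁻¹)⁻¹ = d * (s * z * s⁻¹) * d⁻¹ := by group
      _ = (d * z * d⁻¹)⁻¹ := by rw [hinv z hz]; group
  -- cyclic
  have hcyc : IsCyclic W := by
    letI : CommGroup W :=
      { (inferInstance : Group W) with
        mul_comm := fun a b => Subtype.ext (hWcomm a a.2 b b.2).eq }
    refine IsCyclic.of_exponent_eq_card (Nat.dvd_antisymm Group.exponent_dvd_nat_card ?_)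
    rw [← Nat.factorization_le_iff_dvd Nat.card_pos.ne' Monoid.exponent_ne_zero_of_finite]
    intro p
    by_cases hp : p.Prime
    swap
    · simp [Nat.factorization_eq_zero_of_not_prime _ hp]
    by_cases hpW : p ∣ Nat.card W
    swap
    · simp [Nat.factorization_eq_zero_of_not_dvd hpW]
    have : Fact p.Prime := ⟨hp⟩
    obtain ⟨P, hPW, -, hPn⟩ := exists_invariant_sylowOf_ge (q := p) hWodd hs.1 hWn
      (bot_le : (⊥ : Subgroup G) ≤ W) IsPGroup.of_bot
      (Coprime.mem_normalizer_of_forall_conj fun x hx => by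
        rw [Subgroup.mem_bot] at hx ⊢; rw [hx, mul_one, mul_inv_cancel])
    have hPc := (hsyl p hp (hWπ p hp hpW) P hPW hPn).1
    obtain ⟨g, hg⟩ := hPc.exists_generator
    refine (hp.pow_dvd_iff_le_factorization Monoid.exponent_ne_zero_of_finite).1 ?_
    rw [← card_sylowOf hPW, ← orderOf_eq_card_of_forall_mem_zpowers hg, ← Subgroup.orderOf_coe]
    exact (Subgroup.orderOf_mk (g : G) (hPW.1 g.2)) ▸ Monoid.order_dvd_exponent (⟨g, hPW.1 g.2⟩ : W)
  refine ⟨W, hWD, hnorm, hcyc, hinv', hWidx, hWπ, fun z hz hz1 x hzx => ?_⟩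
  have hne1 : orderOf z ≠ 1 := fun e => hz1 (orderOf_eq_one_iff.1 e)
  obtain ⟨p, hp, hpz⟩ := Nat.exists_prime_and_dvd hne1
  have : Fact p.Prime := ⟨hp⟩
  set v := z ^ (orderOf z / p) with hv
  have hvo : orderOf v = p := by
    have hd : orderOf z / p ∣ orderOf z := Nat.div_dvd_of_dvd hpz
    rw [hv, orderOf_pow_of_dvd (Nat.div_pos (Nat.le_of_dvd (orderOf_pos _) hpz) hp.pos).ne' hd]
    exact Nat.div_div_self hpz (orderOf_pos _).ne'
  have hvW : v ∈ W := pow_mem hz _
  have hpW : p ∣ Nat.card W := hvo ▸ Subgroup.orderOf_dvd_natCard W hvW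
  obtain ⟨P, hPW, hvP, hPn⟩ := exists_invariant_sylowOf_ge hWodd hs.1 hWn
    (Subgroup.zpowers_le.2 hvW)
    (IsPGroup.of_card (p := p) (n := 1) (by rw [Nat.card_zpowers, hvo, pow_one]))
    (Coprime.mem_normalizer_of_forall_conj fun a ha => by
      obtain ⟨i, rfl⟩ := Subgroup.mem_zpowers_iff.1 ha
      rw [hinv _ (zpow_mem hvW i)]
      exact inv_mem (zpow_mem (Subgroup.mem_zpowers v) i))
  refine (hsyl p hp (hWπ p hp hpW) P hPW hPn).2.2.2 v (hvP (Subgroup.mem_zpowers v))
    (fun e => hp.ne_one (by rw [← hvo, e, orderOf_one])) x ?_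
  exact mem_stabilizer_iff.1 (pow_mem (show z ∈ stabilizer G x from hzx) _)

end CfsgLib.BenderTrans
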