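import Cfsg.Agent.Lib.BenderTrans.Semireg.Pair
import Cfsg.Agent.Lib.BenderTrans.Semireg.Hall
import Cfsg.Agent.Lib.CoreSplit.ExcKernel
import Cfsg.Agent.Lib.RankOneTwo.Main

/-!
In a faithful action with a four group in which every involution fixes one point, no point
stabiliser has a nontrivial normal subgroup of odd order.
-/

set_option autoImplicit false

namespace CfsgLib.BenderTrans

open CfsgLib.Involutions CfsgLib.OddOrder MulAction
open scoped commutatorElement

universe u

/-- Images in sections of the induction statement. -/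
theorem coreBelow_of_sect {G : Type u} [Group G] [Finite G] {Ω : Type u} [MulAction G Ω]
    (hsect : ∀ M : Subgroup G, M ≠ ⊤ → Multi Ω M → FourIn M →
      CoreFree (Sect Ω M) (centres Ω M)) : CoreBelow G Ω := by
  intro M hne hM h4 a ha N hN hNn hodd g hg x hx
  set N' : Subgroup (Sect Ω M) := (N.subgroupOf M).map (sect Ω M) with hN'
  have h1 : N' = ⊥ := by
    refine hsect M hne hM h4 ⟨a, ha⟩ N' ?_ ?_ ?_
    · rintro _ ⟨k, hk, rfl⟩
      exact Subtype.ext (hN hk).2
    · intro σ hσ
      obtain ⟨k, rfl⟩ := sect_surjective M σ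
      refine Subgroup.le_normalizer_map (sect Ω M) ⟨k, Subgroup.mem_normalizer_iff.2 fun v => ?_, rfl⟩
      exact Subgroup.mem_normalizer_iff.1
        (hNn ⟨k.2, show (k : G) • a = a from congrArg Subtype.val hσ⟩) (v : G)
    · refine Odd.of_dvd_nat ?_ (Subgroup.card_map_dvd _ _)
      rwa [Nat.card_congr (Subgroup.subgroupOfEquivOfLe (hN.trans inf_le_left)).toEquiv]
  have h2 : sect Ω M ⟨g, (hN hg).1⟩ ∈ N' := Subgroup.mem_map_of_mem (sect Ω M)
    (show (⟨g, (hN hg).1⟩ : M) ∈ N.subgroupOf M from hg)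
  rw [h1, Subgroup.mem_bot] at h2
  exact sect_eq_one_iff.1 h2 x hx

variable {G : Type u} [Group G] [Finite G]

/-- A minimal nontrivial subgroup of `N` normalised by `T` is an abelian group of prime power
order. -/
theorem exists_min_normalized (hsolv : ∀ X : Subgroup G, Odd (Nat.card X) → Group.IsSolvable X)
    {T N : Subgroup G} (hN1 : N ≠ ⊥) (hn : T ≤ Subgroup.normalizer (N : Set G))
    (hodd : Odd (Nat.card N)) :
    ∃ (R : Subgroup G) (r : ℕ), R ≤ N ∧ R ≠ ⊥ ∧ T ≤ Subgroup.normalizer (R : Set G) ∧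
      (∀ S ≤ R, T ≤ Subgroup.normalizer (S : Set G) → S = ⊥ ∨ S = R) ∧ r.Prime ∧ r ≠ 2 ∧
      IsPGroup r R ∧ ∀ a ∈ R, ∀ b ∈ R, Commute a b := by
  classical
  have hex : ∃ k : ℕ, ∃ S : Subgroup G,
      S ≤ N ∧ S ≠ ⊥ ∧ T ≤ Subgroup.normalizer (S : Set G) ∧ Nat.card S = k :=
    ⟨_, N, le_rfl, hN1, hn, rfl⟩
  obtain ⟨R, hRN, hR1, hRn, hRc⟩ := Nat.find_spec hex
  have hmin : ∀ S ≤ R, T ≤ Subgroup.normalizer (S : Set G) → S = ⊥ ∨ S = R := by
    intro S hS hSn
    by_cases hS1 : S = ⊥
    · exact Or.inl hS1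
    · refine Or.inr (Subgroup.eq_of_le_of_card_ge hS ?_)
      rw [hRc]
      exact Nat.find_min' hex ⟨S, hS.trans hRN, hS1, hSn, rfl⟩
  have hRodd : Odd (Nat.card R) := hodd.of_dvd_nat (Subgroup.card_dvd_of_le hRN)
  have hRt : Nontrivial R := (Subgroup.nontrivial_iff_ne_bot R).2 hR1
  have := hsolv R hRodd
  -- the derived subgroup is trivial
  have hdn : T ≤ Subgroup.normalizer ((commutator R).map R.subtype : Set G) := by
    intro g hg
    rw [commutator_def, Subgroup.map_commutator, ← MonoidHom.range_eq_map, Subgroup.range_subtype]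
    refine Coprime.mem_normalizer_of_forall_conj fun x hx => ?_
    have h1 := Subgroup.mem_map_of_mem (MulAut.conj g).toMonoidHom hx
    rw [Subgroup.map_commutator] at h1
    have h2 : R.map (MulAut.conj g).toMonoidHom = R := map_conj_of_mem_normalizer (hRn hg)
    rw [h2] at h1
    exact h1
  have hder : (commutator R).map R.subtype = ⊥ := by
    refine (hmin _ (Subgroup.map_subtype_le _) hdn).resolve_right fun e => ?_
    have hlt := Group.IsSolvable.commutator_lt_top_of_nontrivial (G := R)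
    refine hlt.ne (Subgroup.map_injective R.subtype_injective ?_)
    rw [e, ← MonoidHom.range_eq_map, Subgroup.range_subtype]
  have hab : ∀ a ∈ R, ∀ b ∈ R, Commute a b := by
    intro a ha b hb
    have h1 : (⁅(⟨a, ha⟩ : R), ⟨b, hb⟩⁆ : R) ∈ commutator R :=
      Subgroup.commutator_mem_commutator (Subgroup.mem_top _) (Subgroup.mem_top _)
    have h2 := Subgroup.mem_map_of_mem R.subtype h1
    rw [hder, Subgroup.mem_bot, map_commutatorElement] at h2
    exact commutatorElement_eq_one_iff_mul_comm.1 h2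
  obtain ⟨r, hr, hrd⟩ := Nat.exists_prime_and_dvd (Finite.one_lt_card (α := R)).ne'
  have : Fact r.Prime := ⟨hr⟩
  let S : Subgroup G :=
    { carrier := {x | x ∈ R ∧ x ^ r = 1}
      one_mem' := ⟨R.one_mem, one_pow r⟩
      mul_mem' := fun {a b} ha hb =>
        ⟨R.mul_mem ha.1 hb.1, by rw [(hab a ha.1 b hb.1).mul_pow, ha.2, hb.2, one_mul]⟩
      inv_mem' := fun {a} ha => ⟨R.inv_mem ha.1, by rw [inv_pow, ha.2, inv_one]⟩ }
  have hSR : S = R := by
    refine (hmin S (fun x hx => hx.1) fun g hg => ?_).resolve_left ?_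
    · refine Coprime.mem_normalizer_of_forall_conj fun x hx =>
        ⟨(Subgroup.mem_normalizer_iff.1 (hRn hg) x).1 hx.1, ?_⟩
      rw [conj_pow, hx.2, mul_one, mul_inv_cancel]
    · intro e
      obtain ⟨x, hx⟩ := exists_prime_orderOf_dvd_card' (G := R) r hrd
      have h1 : (x : G) ∈ S :=
        ⟨x.2, by rw [← hx, ← Subgroup.orderOf_coe, pow_orderOf_eq_one]⟩
      rw [e, Subgroup.mem_bot] at h1
      rw [← Subgroup.orderOf_coe, h1, orderOf_one] at hx
      exact hr.one_lt.ne hx
  refine ⟨R, r, hRN, hR1, hRn, hmin, hr, ?_, fun x => ⟨1, ?_⟩, hab⟩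
  · rintro rfl
    exact (Nat.not_even_iff_odd.2 hRodd) (even_iff_two_dvd.2 hrd)
  · have hx : (x : G) ∈ S := hSR.symm ▸ x.2
    rw [pow_one]
    exact Subtype.ext hx.2

/-- No point stabiliser has a nontrivial normal subgroup of odd order. -/
theorem coreFree_of_card_le (hB : CoreSplit.DecompFaithful.{u}) :
    ∀ (n : ℕ) (G : Type u) [Group G] [Finite G] (Ω : Type u) [MulAction G Ω] [Finite Ω],
      Nat.card G ≤ n → (∀ X : Type u, ∀ _ : Group X, ∀ _ : Finite X, Odd (Nat.card X) →
        Group.IsSolvable X) → OneFix G Ω → (∀ g : G, (∀ x : Ω, g • x = x) → g = 1) → HasFour G →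
        CoreFree G Ω := by
  intro n
  induction n with
  | zero =>
    intro G _ _ Ω _ _ hn
    exact absurd hn (Nat.not_le.2 Nat.card_pos)
  | succ n ih =>
    intro G _ _ Ω _ _ hn hodd h hfaith hf c N hN hNn hNodd
    by_contra hN1
    have hbelow : CoreBelow G Ω := coreBelow_of_sect fun M hne hM h4 => by
      obtain ⟨s, hsM, t, htM, hs, ht, hst, hc⟩ := h4
      refine ih (Sect Ω M) (centres Ω M) ?_ hodd (h.oneFix_sect hM) (hfaith_sect M)
        (h.hasFour_sect hM hsM htM hs ht hst hc)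
      have h1 := card_sect_le (Ω := Ω) M
      have h2 : Nat.card M < Nat.card G := by
        rw [← Subgroup.card_top (G := G)]
        exact Set.ncard_lt_ncard (SetLike.coe_ssubset_coe.2 (lt_top_iff_ne_top.2 hne))
          (Set.toFinite _)
      omega
    obtain ⟨R, r, hRN, hR1, hRn, hRmin, hr, hr2, hRp, hab⟩ := exists_min_normalized
      (fun X hX => hodd X inferInstance inferInstance hX) hN1 hNn hNodd
    have hm : MinCore c R r := ⟨h, hfaith, hf, hodd, hbelow, hr,
      hNodd.of_dvd_nat (Subgroup.card_dvd_of_le hRN), hRp, hR1, hRN.trans hN, hRn, hab⟩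
    obtain ⟨y, hy⟩ := h.nontriv c
    obtain ⟨Z, hZle, hZn, hZc, hZi, hZh, hZp, hZf⟩ := exists_hall h hy (hm.pairFacts hy) hodd
    have hfpf : ∀ z ∈ Z, z ≠ 1 → ∀ a ∈ R, Commute z a → a = 1 := by
      intro z hz hz1 a ha hza
      obtain ⟨p, hp, hpd⟩ := Nat.exists_prime_and_dvd (fun e => hz1 (orderOf_eq_one_iff.1 e))
      have : Fact p.Prime := ⟨hp⟩
      have hpm := hZp p hp (hpd.trans (Subgroup.orderOf_dvd_natCard _ hz))
      have hw : orderOf (z ^ (orderOf z / p)) = p := orderOf_pow_orderOf_div (orderOf_pos z).ne' hpd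
      refine hm.fpf_dvd hpm hy (hZle (pow_mem hz _))
        (fun e => hp.ne_one (by rw [← hw, e, orderOf_one]))
        (IsPGroup.of_card (n := 1) (by rw [Nat.card_zpowers, hw, pow_one])) a ha (hza.pow_left _)
    have hS : CoreSplit.Setting c y R Z r :=
      { oneFix := h, faith := hfaith, four := hf, trans2 := hm.concl.trans2, hodd := hodd
        ne := hy, comm := hm.comm, prime := hr, r_ne := hr2, R_pGroup := hRp, R_ne := hR1
        R_le := hRN.trans hN, R_normal := hRn, R_min := hRmin, R_cent := hm.cent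
        fpf_Z := hfpf
        fpf_pair := fun d hd hp s hs t ht hst hds hdt => hm.fpf_pair hy hd hp hs ht hst hds hdt
        semireg := hm.semireg hy, r_not_dvd := hm.r_not_dvd, Z_le := hZle, Z_normal := hZn
        Z_cyclic := hZc, Z_inv := hZi, Z_hall := hZh, Z_primes := hZp, Z_fix := hZf
        sect_core := hbelow }
    refine hS.false_of_decompFaithful hB fun t ht => ?_
    have : FaithfulSMul G Ω := ⟨fun {g g'} e => by
      have h1 := hfaith (g⁻¹ * g') fun x => by rw [mul_smul, ← e x, inv_smul_smul]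
      exact inv_mul_eq_one.1 h1⟩
    obtain ⟨a, b, ha, hb, hab', hc⟩ := hf
    exact RankOneTwo.isPGroup_two_Q ht ⟨a, b, fun e => by rw [e, orderOf_one] at ha; omega,
      fun e => by rw [e, orderOf_one] at hb; omega, hab', mul_self_eq_one ha, mul_self_eq_one hb,
      hc.eq⟩

end CfsgLib.BenderTrans
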