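import Cfsg.Agent.Lib.BenderTrans.Semireg.Defs
import Cfsg.Agent.Lib.BenderTrans.Main
import Cfsg.Agent.Lib.PCore.Basic
import Cfsg.Agent.Lib.Involutions.StronglyEmbedded

/-!
The odd core of a strongly embedded subgroup lies in that of the group, once no point stabiliser of
a faithful action with a four group has a nontrivial normal subgroup of odd order.
-/

set_option autoImplicit false

namespace CfsgLib.BenderTrans

open CfsgLib.Involutions MulAction

universe u

variable {G : Type u} [Group G] [Finite G] {H : Subgroup G}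

theorem odd_card_oddCore' (K : Type*) [Group K] [Finite K] : Odd (Nat.card (Cfsg.oddCore K)) := by
  have : Fact (Nat.Prime 2) := ⟨Nat.prime_two⟩
  rw [← Nat.not_even_iff_odd, even_iff_two_dvd]
  exact PCore.not_dvd_card_pPrimeCore

theorem le_oddCore' {N : Subgroup G} (hN : N.Normal) (h : Odd (Nat.card N)) :
    N ≤ Cfsg.oddCore G :=
  PCore.le_pPrimeCore hN (Nat.coprime_two_right.2 h)

omit [Finite G] in
theorem oddCore_map_normal [Finite G] :
    H ≤ Subgroup.normalizer (((Cfsg.oddCore H).map H.subtype : Subgroup G) : Set G) := by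
  refine le_trans ?_ (Subgroup.le_normalizer_map H.subtype)
  rw [Subgroup.normalizer_eq_top, ← MonoidHom.range_eq_map, Subgroup.range_subtype]

/-- The case without a four group. -/
theorem core_in_core_of_no_four (hH : Cfsg.IsStronglyEmbedded H) (hf : ¬ HasFour G) :
    (Cfsg.oddCore H).map H.subtype ≤ Cfsg.oddCore G := by
  have huniq : ∀ s t : G, orderOf s = 2 → orderOf t = 2 → Commute s t → s = t :=
    fun s t hs ht hc => by_contra fun hne => hf ⟨s, t, hs, ht, hne, hc⟩
  set K := (Cfsg.oddCore H).map H.subtype with hK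
  set O := Cfsg.oddCore G with hO
  haveI : O.Normal := by
    haveI : (Cfsg.pPrimeCore 2 G).Characteristic := inferInstance
    exact inferInstance
  -- the group is the product of its core and the centraliser of an involution
  have hOH : O ⊔ H = ⊤ := by
    rw [eq_top_iff]
    intro g _
    obtain ⟨z, hzH, hz⟩ := Involutions.exists_involution_of_even_card H hH.2.1
    have hz' : orderOf (g * z * g⁻¹) = 2 := (Involutions.orderOf_conj_eq g z).trans hz
    have hmem : g * z * g⁻¹ * z ∈ O := by
      have h1 := Involutions.inZStar_of_rank_one huniq hz g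
      simpa [inv_eq_self_of_involution hz, mul_assoc] using h1
    have hodd : Odd (orderOf (g * z * g⁻¹ * z)) :=
      (odd_card_oddCore' G).of_dvd_nat (Subgroup.orderOf_dvd_natCard _ hmem)
    obtain ⟨m, hm⟩ := id hodd
    set a := g * z * g⁻¹ * z with ha
    have hconj : a ^ (m : ℤ) * (g * z * g⁻¹) * (a ^ (m : ℤ))⁻¹ = z := by
      have h1 := conj_by_zpow hz' hz (m : ℤ) 0
      rw [zpow_zero, one_mul, add_zero, ← ha] at h1
      rw [h1]
      have h3 : a ^ (2 * (m : ℤ)) = a⁻¹ := by
        apply eq_inv_of_mul_eq_one_left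
        have := pow_orderOf_eq_one a
        rw [hm, pow_succ] at this
        exact_mod_cast this
      rw [h3, ha, mul_inv_rev, inv_eq_self_of_involution hz, inv_eq_self_of_involution hz', mul_assoc,
        mul_self_eq_one hz', mul_one]
    have hdg : a ^ (m : ℤ) * g ∈ H := by
      refine Involutions.se_centralizer_le hH hzH hz (Subgroup.mem_centralizer_singleton_iff.2 ?_)
      calc a ^ (m : ℤ) * g * z
          = (a ^ (m : ℤ) * (g * z * g⁻¹) * (a ^ (m : ℤ))⁻¹) * (a ^ (m : ℤ) * g) := by group
        _ = z * (a ^ (m : ℤ) * g) := by rw [hconj]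
    rw [show g = (a ^ (m : ℤ))⁻¹ * (a ^ (m : ℤ) * g) by group]
    exact Subgroup.mul_mem_sup (inv_mem (zpow_mem hmem _)) hdg
  have hn : (O ⊔ K).Normal := by
    rw [← Subgroup.normalizer_eq_top_iff, eq_top_iff, ← hOH]
    refine sup_le (le_trans le_sup_left Subgroup.le_normalizer) (Subgroup.le_normalizer_iff.2 ?_)
    intro g hg x hx
    have hO : O.map (MulAut.conj g).toMonoidHom ≤ O := by
      rintro _ ⟨v, hv, rfl⟩
      exact Subgroup.Normal.conj_mem inferInstance v hv g
    have hK' : K.map (MulAut.conj g).toMonoidHom ≤ K := by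
      rintro _ ⟨v, hv, rfl⟩
      exact (Subgroup.mem_normalizer_iff.1 (oddCore_map_normal hg) v).1 hv
    have h1 := Subgroup.mem_map_of_mem (MulAut.conj g).toMonoidHom hx
    rw [Subgroup.map_sup] at h1
    exact sup_le_sup hO hK' h1
  refine le_trans (le_sup_right : K ≤ O ⊔ K) (le_oddCore' hn ?_)
  refine (Odd.mul (odd_card_oddCore' G) ?_).of_dvd_nat (PCore.card_sup_dvd_mul O K)
  rw [hK, Subgroup.card_map_of_injective H.subtype_injective]
  exact odd_card_oddCore' H

/-- The odd core of a strongly embedded subgroup lies in the odd core of the group. -/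
theorem core_in_core (hfree : ∀ (K Ω : Type u) [Group K] [Finite K] [MulAction K Ω] [Finite Ω],
      OneFix K Ω → (∀ g : K, (∀ x : Ω, g • x = x) → g = 1) → HasFour K → CoreFree K Ω)
    (hH : Cfsg.IsStronglyEmbedded H) :
    (Cfsg.oddCore H).map H.subtype ≤ Cfsg.oddCore G := by
  by_cases hf : HasFour G
  swap
  · exact core_in_core_of_no_four hH hf
  have h := oneFix_of_stronglyEmbedded hH
  obtain ⟨s, t, hs, ht, hne, hc⟩ := hf
  set M : Subgroup G := ⊤ with hM'
  have hall : ∀ x : G ⧸ H, x ∈ centres (G ⧸ H) M := fun x => by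
    obtain ⟨t, ht⟩ := h.exists_invAt x
    exact mem_centres (Subgroup.mem_top t) ht
  have hM : Multi (G ⧸ H) M := by
    obtain ⟨y, hy⟩ := h.nontriv ((1 : G) : G ⧸ H)
    exact ⟨_, hall _, y, hall y, hy.symm⟩
  set c : centres (G ⧸ H) M := ⟨((1 : G) : G ⧸ H), hall _⟩
  set K := (Cfsg.oddCore H).map H.subtype with hK
  set N : Subgroup (Sect (G ⧸ H) M) := (K.subgroupOf M).map (sect (G ⧸ H) M) with hN
  have hKH : K ≤ H := Subgroup.map_subtype_le _
  have hstab : ∀ g : G, g • ((1 : G) : G ⧸ H) = ((1 : G) : G ⧸ H) ↔ g ∈ H := fun g =>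
    StrongEmbedding.mem_iff_smul_base.symm
  have hNle : N ≤ stabilizer (Sect (G ⧸ H) M) c := by
    rintro _ ⟨g, hg, rfl⟩
    exact Subtype.ext ((hstab _).2 (hKH hg))
  have hNn : stabilizer (Sect (G ⧸ H) M) c ≤ Subgroup.normalizer (N : Set (Sect (G ⧸ H) M)) := by
    intro σ hσ
    obtain ⟨g, rfl⟩ := sect_surjective M σ
    refine Subgroup.le_normalizer_map (sect (G ⧸ H) M) ⟨g, Subgroup.mem_normalizer_iff.2 fun v => ?_, rfl⟩
    exact Subgroup.mem_normalizer_iff.1
      (oddCore_map_normal ((hstab _).1 (congrArg Subtype.val hσ))) (v : G)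
  have hNodd : Odd (Nat.card N) := by
    refine Odd.of_dvd_nat ?_ (Subgroup.card_map_dvd _ _)
    rw [Nat.card_congr (Subgroup.subgroupOfEquivOfLe (le_top : K ≤ M)).toEquiv, hK,
      Subgroup.card_map_of_injective H.subtype_injective]
    exact odd_card_oddCore' H
  have hbot := hfree (Sect (G ⧸ H) M) (centres (G ⧸ H) M) (h.oneFix_sect hM) (hfaith_sect M)
    (h.hasFour_sect hM (Subgroup.mem_top s) (Subgroup.mem_top t) hs ht hne hc) c N hNle hNn hNodd
  have hker : K ≤ ((sect (G ⧸ H) M).ker).map M.subtype := fun g hg =>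
    ⟨⟨g, Subgroup.mem_top g⟩, MonoidHom.mem_ker.2 (Subgroup.mem_bot.1 (hbot ▸
      Subgroup.mem_map_of_mem (sect (G ⧸ H) M) (show (⟨g, Subgroup.mem_top g⟩ : M) ∈ K.subgroupOf M from
        hg))), rfl⟩
  refine hker.trans (le_oddCore' ?_ ?_)
  · exact Subgroup.Normal.map inferInstance M.subtype fun g => ⟨⟨g, Subgroup.mem_top g⟩, rfl⟩
  · rw [Subgroup.card_map_of_injective M.subtype_injective]
    exact h.odd_card_ker_sect hM

end CfsgLib.BenderTrans
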