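import Cfsg.Agent.Lib.BenderTrans.Central

/-!
The induction statement for the reduction to a semiregular normal subgroup of odd order: no point
stabiliser has a nontrivial normal subgroup of odd order.
-/

set_option autoImplicit false

namespace CfsgLib.BenderTrans

open CfsgLib.Involutions CfsgLib.OddOrder MulAction

universe u

variable (G : Type u) [Group G] (Ω : Type u) [MulAction G Ω]

/-- No point stabiliser normalises a nontrivial subgroup of odd order contained in it. -/
def CoreFree : Prop :=
  ∀ c : Ω, ∀ N : Subgroup G, N ≤ stabilizer G c → stabilizer G c ≤ Subgroup.normalizer (N : Set G) →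
    Odd (Nat.card N) → N = ⊥

/-- In proper subgroups with several centres, normal odd subgroups of the stabilisers fix all
centres. -/
def CoreBelow : Prop :=
  ∀ M : Subgroup G, M ≠ ⊤ → Multi Ω M → FourIn M → ∀ a ∈ centres Ω M, ∀ N : Subgroup G,
    N ≤ M ⊓ stabilizer G a → M ⊓ stabilizer G a ≤ Subgroup.normalizer (N : Set G) →
      Odd (Nat.card N) → ∀ g ∈ N, ∀ x ∈ centres Ω M, g • x = x

variable {G Ω}

/-- The facts on Sylow subgroups of `two G c y` for the primes dividing the number of involutions
at `c` from which the inverted Hall subgroup is built. -/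
def PairFacts (c y : Ω) : Prop :=
  ∀ p : ℕ, p.Prime → p ∣ (invAt G c).ncard → ∀ s ∈ swaps G c y, ∀ P : Subgroup G,
    SylowOf p P (two G c y) → s ∈ Subgroup.normalizer (P : Set G) →
      IsCyclic P ∧ (∀ x ∈ P, s * x * s⁻¹ = x⁻¹) ∧ Nat.card P = qpart G c p ∧
        ∀ x ∈ P, x ≠ 1 → ∀ z : Ω, x • z = z → z = c ∨ z = y

end CfsgLib.BenderTrans
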