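import Cfsg.Agent.Lib.BenderTrans.Semireg.Steps
import Cfsg.Agent.Lib.Structure81.FPFPGroup

/-!
The Sylow subgroups of a two point stabiliser for the primes dividing the number of involutions at
a point, in the presence of a semiregular normal subgroup of odd order.
-/

set_option autoImplicit false

namespace CfsgLib.BenderTrans

open CfsgLib.Involutions CfsgLib.OddOrder MulAction

universe u

variable {G : Type u} [Group G] {Ω : Type u} [MulAction G Ω]

namespace MinCore

variable [Finite G] [Finite Ω] {c : Ω} {R : Subgroup G} {r : ℕ} (h : MinCore c R r)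
include h

/-- An element of prime power order, dividing the number of involutions at `c`, of a two point
stabiliser is fixed-point-free on `R`; hence so is such a subgroup, which is then cyclic. -/
theorem isCyclic_dvd {q : ℕ} [Fact q.Prime] (hqm : q ∣ (invAt G c).ncard) {y : Ω} (hy : y ≠ c)
    {S : Subgroup G} (hS : S ≤ two G c y) (hq : IsPGroup q S) : IsCyclic S := by
  have hR : ∀ s : S, ∀ a ∈ R, (s : G) * a * (s : G)⁻¹ ∈ R := fun s a ha =>
    (Subgroup.mem_normalizer_iff.1 (h.R_normal (hS s.2).1) a).1 ha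
  let f : S →* MulAut R :=
    { toFun := fun s =>
        { toFun := fun a => ⟨(s : G) * (a : G) * (s : G)⁻¹, hR s a a.2⟩
          invFun := fun a => ⟨(s : G)⁻¹ * (a : G) * (s : G), by simpa using hR s⁻¹ a a.2⟩
          left_inv := fun a => Subtype.ext (by simp [mul_assoc])
          right_inv := fun a => Subtype.ext (by simp [mul_assoc])
          map_mul' := fun a b => Subtype.ext (by simp [mul_assoc]) }
      map_one' := MulEquiv.ext fun a => Subtype.ext (by simp)
      map_mul' := fun s t => MulEquiv.ext fun a => Subtype.ext (by simp [mul_assoc]) }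
  letI : MulDistribMulAction S R := MulDistribMulAction.compHom R f
  have : Nontrivial R := (Subgroup.nontrivial_iff_ne_bot R).2 h.R_ne
  have hf : Frobenius.IsFPF S R := by
    intro s hs a ha
    have h1 : (s : G) * (a : G) * (s : G)⁻¹ = a := congrArg Subtype.val ha
    exact Subtype.ext (h.fpf_dvd hqm hy (hS s.2) (fun e => hs (Subtype.ext e))
      (hq.to_le (Subgroup.zpowers_le.2 s.2)) a a.2 (mul_inv_eq_iff_eq_mul.1 h1))
  rcases Structure81.isCyclic_or_quaternion_of_fpf hq hf with hc | ⟨n, ⟨e⟩⟩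
  · exact hc
  · exfalso
    have h1 : 2 ∣ Nat.card S := by
      rw [Nat.card_congr e.toEquiv, Nat.card_eq_fintype_card, QuaternionGroup.card]
      exact dvd_mul_of_dvd_left (by norm_num) _
    exact (Nat.not_even_iff_odd.2 (h.base.odd_two hy.symm))
      (even_iff_two_dvd.2 (h1.trans (Subgroup.card_dvd_of_le hS)))

/-- The swapper-invariant Sylow subgroups of `two G c y` for the primes dividing the number of
involutions at `c`. -/
theorem pairFacts {y : Ω} (hy : y ≠ c) : PairFacts (G := G) c y := by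
  intro p hp hpm s hs P hP hsP
  have : Fact p.Prime := ⟨hp⟩
  have hC := h.ctx hpm
  have hcyc := h.isCyclic_dvd hpm hy hP.1 hP.2.1
  have hoddP : Odd (Nat.card P) :=
    (h.base.odd_two hy.symm).of_dvd_nat (Subgroup.card_dvd_of_le hP.1)
  have hcls := h.base.qpart_eq_cls hy.symm hs hP hsP c
  have hconj : ∀ g ∈ P, s * g * s⁻¹ ∈ P := fun g hg =>
    (Subgroup.mem_normalizer_iff.1 hsP g).1 hg
  have hPc : ∀ g ∈ P, ∀ g' ∈ P, Commute g g' := fun g hg g' hg' => by
    have := hcyc
    let _ : CommGroup P := IsCyclic.commGroup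
    exact congrArg Subtype.val (mul_comm (⟨g, hg⟩ : P) ⟨g', hg'⟩)
  have hs2 : s * s = 1 := mul_self_eq_one hs.1
  have hss : ∀ g : G, s * (s * g * s⁻¹) * s⁻¹ = g := fun g => by
    rw [inv_eq_self_of_involution hs.1]
    calc s * (s * g * s) * s = (s * s) * g * (s * s) := by group
      _ = g := by rw [hs2, one_mul, mul_one]
  -- an inverted element of order `p`
  obtain ⟨g0, hg0, hg0ne⟩ : ∃ g ∈ P, s * g * s⁻¹ ≠ g := by
    by_contra hno
    push Not at hno
    have h1 : cls P s = {s} := by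
      refine Set.eq_singleton_iff_unique_mem.2 ⟨⟨1, P.one_mem, by simp⟩, ?_⟩
      rintro _ ⟨g, hg, rfl⟩
      have h2 : s * g = g * s := mul_inv_eq_iff_eq_mul.1 (hno g hg)
      rw [← h2, mul_inv_cancel_right]
    rw [h1, Set.ncard_singleton] at hcls
    exact absurd hcls (ne_of_lt (h.base.one_lt_qpart c hpm))
  have huniq : ∀ b ∈ P, b ≠ 1 → ∀ w ∈ P, orderOf w = p → w ∈ Subgroup.zpowers b := by
    intro b hb hb1 w hw hwp
    obtain ⟨b', hb'⟩ : ∃ b' ∈ Subgroup.zpowers b, orderOf b' = p := by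
      obtain ⟨k, hk⟩ := hP.2.1 ⟨b, hb⟩
      have hbk : b ^ p ^ k = 1 := congrArg Subtype.val hk
      have hd : p ∣ orderOf b := by
        obtain ⟨j, -, hj⟩ := (Nat.dvd_prime_pow hp).1 (orderOf_dvd_of_pow_eq_one hbk)
        rcases j with _ | j
        · exact absurd (orderOf_eq_one_iff.1 (by simpa using hj)) hb1
        · exact hj ▸ dvd_pow_self p (Nat.succ_ne_zero j)
      exact ⟨b ^ (orderOf b / p), pow_mem (Subgroup.mem_zpowers b) _,
        orderOf_pow_orderOf_div (orderOf_pos b).ne' hd⟩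
    have heq : Subgroup.zpowers w = Subgroup.zpowers b' := by
      have := hcyc
      have hb'P : b' ∈ P := (Subgroup.zpowers_le.2 hb) hb'.1
      classical
      have := Fintype.ofFinite P
      have h2 : (Subgroup.zpowers (⟨w, hw⟩ : P)) = Subgroup.zpowers ⟨b', hb'P⟩ := by
        have hsub : ∀ v : P, orderOf v = p →
            ((Subgroup.zpowers v : Subgroup P) : Set P).toFinset =
              Finset.univ.filter fun a => a ^ p = 1 := fun v hv => by
          refine Finset.eq_of_subset_of_card_le (fun a ha => ?_) ?_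
          · rw [Set.mem_toFinset] at ha
            obtain ⟨n, rfl⟩ := Subgroup.mem_zpowers_iff.1 ha
            refine Finset.mem_filter.2 ⟨Finset.mem_univ _, ?_⟩
            rw [← zpow_natCast, zpow_comm, zpow_natCast, ← hv, pow_orderOf_eq_one, one_zpow]
          · refine (IsCyclic.card_pow_eq_one_le hp.pos).trans (le_of_eq ?_)
            rw [← Set.ncard_eq_toFinset_card', ← Nat.card_coe_set_eq, SetLike.coe_sort_coe, Nat.card_zpowers, hv]
        refine SetLike.coe_injective (Set.toFinset_inj.1 ?_)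
        rw [hsub _ (by rw [Subgroup.orderOf_mk]; exact hwp),
          hsub _ (by rw [Subgroup.orderOf_mk]; exact hb'.2)]
      have h3 := congrArg (Subgroup.map P.subtype) h2
      rwa [MonoidHom.map_zpowers, MonoidHom.map_zpowers] at h3
    exact Subgroup.zpowers_le.2 hb'.1 (heq ▸ Subgroup.mem_zpowers w)
  set b := g0⁻¹ * (s * g0 * s⁻¹) with hb
  have hbP : b ∈ P := P.mul_mem (P.inv_mem hg0) (hconj g0 hg0)
  have hb1 : b ≠ 1 := fun e => hg0ne ((inv_mul_eq_one.1 e).symm)
  have hbinv : s * b * s⁻¹ = b⁻¹ := by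
    calc s * b * s⁻¹ = (s * g0 * s⁻¹)⁻¹ * (s * (s * g0 * s⁻¹) * s⁻¹) := by rw [hb]; group
      _ = b⁻¹ := by rw [hss, hb]; group
  have hfix1 : ∀ a ∈ P, s * a * s⁻¹ = a → a = 1 := by
    intro a ha hsa
    by_contra ha1
    obtain ⟨w, hw⟩ : ∃ w ∈ P, orderOf w = p := by
      obtain ⟨k, hk⟩ := hP.2.1.exists_card_eq
      have hk0 : k ≠ 0 := fun e => by
        rw [e, pow_zero] at hk
        exact ha1 (Subgroup.mem_bot.1 (Subgroup.card_eq_one.1 hk ▸ ha))
      obtain ⟨w, hw⟩ := exists_prime_orderOf_dvd_card' (G := P) p (hk ▸ dvd_pow_self p hk0)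
      exact ⟨w, w.2, by rw [Subgroup.orderOf_coe]; exact hw⟩
    obtain ⟨i, hi⟩ := Subgroup.mem_zpowers_iff.1 (huniq a ha ha1 w hw.1 hw.2)
    obtain ⟨j, hj⟩ := Subgroup.mem_zpowers_iff.1 (huniq b hbP hb1 w hw.1 hw.2)
    have e1 : s * w * s⁻¹ = w := by rw [← hi, ← conj_zpow, hsa]
    have e2 : s * w * s⁻¹ = w⁻¹ := by rw [← hj, ← conj_zpow, hbinv, inv_zpow]
    have hw1 : w ≠ 1 := fun e => hp.ne_one (by rw [← hw.2, e, orderOf_one])
    have h2 : p = 2 := by
      rw [← hw.2]
      exact orderOf_eq_two_iff_mul.2 ⟨hw1, by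
        conv_lhs => arg 1; rw [e1.symm.trans e2]
        exact inv_mul_cancel w⟩
    exact hC.ne_two h2
  have hinv : ∀ x ∈ P, s * x * s⁻¹ = x⁻¹ := by
    intro x hx
    refine eq_inv_of_mul_eq_one_left (hfix1 _ (P.mul_mem (hconj x hx) hx) ?_)
    calc s * (s * x * s⁻¹ * x) * s⁻¹ = s * (s * x * s⁻¹) * s⁻¹ * (s * x * s⁻¹) := by group
      _ = x * (s * x * s⁻¹) := by rw [hss]
      _ = s * x * s⁻¹ * x := hPc x hx _ (hconj x hx)
  refine ⟨hcyc, hinv, ?_, ?_⟩
  · have h1 := ncard_cls_mul P s
    have h2 : P ⊓ Subgroup.centralizer {s} = ⊥ := by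
      refine (Subgroup.eq_bot_iff_forall _).2 fun a ha => hfix1 a ha.1 ?_
      rw [← Subgroup.mem_centralizer_singleton_iff.1 ha.2, mul_inv_cancel_right]
    rw [h2, Subgroup.card_bot, mul_one] at h1
    rw [← h1, hcls]
  · intro x hx hx1 z hz
    have hxq : IsPGroup p (Subgroup.zpowers x) := hP.2.1.to_le (Subgroup.zpowers_le.2 hx)
    have hmemfix : ∀ {y : Ω}, x • y = y → y ∈ fixSet Ω (Subgroup.zpowers x) := fun hy g hg =>
      (Subgroup.zpowers_le.2 (show x ∈ stabilizer G _ from hy)) hg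
    have hxc := mem_two_iff.1 (hP.1 hx)
    rcases Nat.lt_or_ge 2 (fixSet Ω (Subgroup.zpowers x)).ncard with h3 | h2
    · exfalso
      have hodd := hC.odd_fixSet (h.central p) hxq h3
      obtain ⟨e, he⟩ := h.base.exists_fix s hs.1
      have hsn : s ∈ Subgroup.normalizer (Subgroup.zpowers x : Set G) := by
        refine Coprime.mem_normalizer_of_forall_conj fun g hg => ?_
        obtain ⟨n, rfl⟩ := Subgroup.mem_zpowers_iff.1 hg
        rw [← conj_zpow, hinv x hx]
        exact Subgroup.zpow_mem _ (Subgroup.inv_mem _ (Subgroup.mem_zpowers x)) n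
      have hee : e ∈ fixSet Ω (Subgroup.zpowers x) := h.base.centre_mem_of_odd ⟨hs.1, he⟩
        (fun _ hz => smul_mem_fixSet hsn hz) hodd
      have hce : c ≠ e := (h.base.ne_of_swap hy.symm hs he).1.symm
      have hcomm := h.central p e c s hce ⟨hs.1, he⟩ (Subgroup.zpowers x) hxq
        (Subgroup.zpowers_le.2 (mem_two_iff.2 ⟨hee x (Subgroup.mem_zpowers x), hxc.1⟩)) hsn x
        (Subgroup.mem_zpowers x)
      exact hx1 (hfix1 x hx (by rw [hcomm.symm.eq, mul_inv_cancel_right]))
    · have hpair := hC.fixSet_eq_pair hy.symm (hmemfix hxc.1) (hmemfix hxc.2) h2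
      have h4 := hmemfix hz
      rw [hpair] at h4
      exact h4

end MinCore

end CfsgLib.BenderTrans
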