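import Cfsg.Agent.Lib.BenderTrans.Semireg.Defs

/-!
A minimal normal odd subgroup `R` of a point stabiliser: it is semiregular off its centre, is
centralised by the involutions there, and is centralised by no nontrivial element of a two point
stabiliser.
-/

set_option autoImplicit false

namespace CfsgLib.BenderTrans

open CfsgLib.Involutions CfsgLib.OddOrder MulAction

universe u

variable {G : Type u} [Group G] {Ω : Type u} [MulAction G Ω]

/-- A nontrivial abelian normal `r`-subgroup of odd order of a point stabiliser, together with the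
induction hypothesis on proper subgroups. -/
structure MinCore (c : Ω) (R : Subgroup G) (r : ℕ) : Prop where
  base : OneFix G Ω
  faith : ∀ g : G, (∀ x : Ω, g • x = x) → g = 1
  four : HasFour G
  odd_solv : ∀ X : Type u, ∀ _ : Group X, ∀ _ : Finite X, Odd (Nat.card X) → Group.IsSolvable X
  below : CoreBelow G Ω
  prime : r.Prime
  odd : Odd (Nat.card R)
  R_pGroup : IsPGroup r R
  R_ne : R ≠ ⊥
  R_le : R ≤ stabilizer G c
  R_normal : stabilizer G c ≤ Subgroup.normalizer (R : Set G)
  R_abel : ∀ a ∈ R, ∀ b ∈ R, Commute a b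

/-- The orbits of a normal subgroup divide those of the group. -/
theorem ncard_cls_dvd_of_normal [Finite G] {K D : Subgroup G} (hKD : K ≤ D)
    (hn : D ≤ Subgroup.normalizer (K : Set G)) (u : G) :
    (cls K u).ncard ∣ (cls D u).ncard := by
  set C : Subgroup G := Subgroup.centralizer {u} with hC
  have hnat := ncard_cls_mul K u
  have hD := ncard_cls_mul D u
  have : (K.subgroupOf D).Normal := Subgroup.normal_subgroupOf_of_le_normalizer hn
  set C' := C.subgroupOf D with hC'
  set K' := K.subgroupOf D with hK'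
  have h1 : K'.relIndex (C' ⊔ K') = K'.relIndex C' := Subgroup.relIndex_sup_right _ _
  have h2 : Nat.card K' * K'.relIndex (C' ⊔ K') = Nat.card (C' ⊔ K' : Subgroup D) := by
    rw [← Subgroup.relIndex_bot_left, ← Subgroup.relIndex_bot_left,
      Subgroup.relIndex_mul_relIndex _ _ _ bot_le le_sup_right]
  have h3 : Nat.card (K' ⊓ C' : Subgroup D) * K'.relIndex C' = Nat.card C' := by
    rw [← Subgroup.inf_relIndex_right, ← Subgroup.relIndex_bot_left,
      ← Subgroup.relIndex_bot_left, Subgroup.relIndex_mul_relIndex _ _ _ bot_le inf_le_right]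
  have hcK : Nat.card K' = Nat.card K := Nat.card_congr (Subgroup.subgroupOfEquivOfLe hKD).toEquiv
  have hcI : Nat.card (K' ⊓ C' : Subgroup D) = Nat.card (K ⊓ C : Subgroup G) := by
    rw [show K' ⊓ C' = (K ⊓ C).subgroupOf D from (Subgroup.comap_inf K C D.subtype).symm]
    exact Nat.card_congr (Subgroup.subgroupOfEquivOfLe (inf_le_left.trans hKD)).toEquiv
  have hcC : Nat.card C' = Nat.card (D ⊓ C : Subgroup G) := by
    rw [hC', ← Subgroup.inf_subgroupOf_left]
    exact Nat.card_congr (Subgroup.subgroupOfEquivOfLe inf_le_left).toEquiv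
  have hsup := Subgroup.card_subgroup_dvd_card (C' ⊔ K')
  rw [← h2, hcK, h1, ← hnat, mul_assoc, ← hcI, h3, hcC] at hsup
  rw [← hD] at hsup
  exact Nat.dvd_of_mul_dvd_mul_right Nat.card_pos hsup

/-- A class of one element is fixed by the group. -/
theorem commute_of_ncard_cls_one {K : Subgroup G} {u : G} (h1 : (cls K u).ncard = 1) {d : G}
    (hd : d ∈ K) : Commute d u := by
  obtain ⟨x, hx⟩ := Set.ncard_eq_one.1 h1
  have e1 : u ∈ cls K u := ⟨1, K.one_mem, by simp⟩
  have e2 : d * u * d⁻¹ ∈ cls K u := ⟨d, hd, rfl⟩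
  rw [hx] at e1 e2
  exact mul_inv_eq_iff_eq_mul.1 ((Set.mem_singleton_iff.1 e2).trans (Set.mem_singleton_iff.1 e1).symm)

namespace MinCore

variable [Finite G] [Finite Ω] {c : Ω} {R : Subgroup G} {r : ℕ} (h : MinCore c R r)
include h

theorem concl : Concl G Ω :=
  concl_of_card_le _ G Ω le_rfl h.odd_solv h.base h.faith h.four

theorem central (q : ℕ) [Fact q.Prime] : CentralFor G Ω q :=
  central_of_card_le _ G Ω le_rfl h.odd_solv h.base h.faith h.four q

theorem ctx {q : ℕ} (hq : q ∣ (invAt G c).ncard) : Ctx G Ω q :=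
  ⟨h.base, h.faith, h.four, h.concl, fun x => h.base.ncard_invAt_eq c x ▸ hq, h.odd_solv⟩

/-- The involutions at `c` centralise `R`. -/
theorem cent : ∀ t ∈ invAt G c, ∀ a ∈ R, Commute t a := fun t ht a ha =>
  (h.concl.core c R h.R_le h.R_normal h.odd t ht a ha).symm

/-- `R` fixes no second point. -/
theorem not_fixes {z : Ω} (hz : z ≠ c) : ¬ ∀ a ∈ R, a • z = z := by
  intro hfix
  refine h.R_ne ((Subgroup.eq_bot_iff_forall _).2 fun a ha => h.faith a fun x => ?_)
  rcases eq_or_ne x c with rfl | hx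
  · exact h.R_le ha
  · obtain ⟨g, hgc, hgz⟩ := h.concl.trans2 c z x hz hx
    have h1 : z ∈ fixSet Ω R := hfix
    have h2 := smul_mem_fixSet (h.R_normal (show g ∈ stabilizer G c from hgc)) h1
    rw [hgz] at h2
    exact h2 a ha

/-- The prime `r` does not divide the number of involutions at `c`. -/
theorem r_not_dvd : ¬ r ∣ (invAt G c).ncard := by
  intro hd
  have : Fact r.Prime := ⟨h.prime⟩
  obtain ⟨z, hz⟩ := h.base.nontriv c
  refine h.not_fixes hz fun a ha => ?_
  exact h.base.pGroup_fixes_of_normal (h.concl.good c r h.prime hd) h.concl.trans2 h.R_le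
    h.R_pGroup h.R_normal z a ha

/-- An element commuting with two involutions at `c` and with a swapper centralises only elements
of `R` fixing the other point. -/
theorem below_fix {d : G} (hd1 : d ≠ 1) (hdc : d • c = c) {s t : G} (hs : s ∈ invAt G c)
    (ht : t ∈ invAt G c) (hne : s ≠ t) (hst : Commute s t) (hds : Commute d s) (hdt : Commute d t)
    {z : Ω} (hz : z ≠ c) {w : G} (hw : w ∈ swaps G c z) (hdw : Commute d w) :
    ∀ a ∈ R, Commute d a → a • z = z := by
  intro a ha hda
  set M : Subgroup G := Subgroup.centralizer {d} with hM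
  have hmem : ∀ {g : G}, Commute d g → g ∈ M := fun hg =>
    Subgroup.mem_centralizer_singleton_iff.2 hg.symm.eq
  have hne_top : M ≠ ⊤ := fun e => hd1 (h.faith d fun x => by
    obtain ⟨g, rfl⟩ := h.base.trans c x
    have hg : g * d = d * g := Subgroup.mem_centralizer_singleton_iff.1
      (e ▸ Subgroup.mem_top g : g ∈ M)
    rw [← mul_smul, ← hg, mul_smul, hdc])
  have h4 : FourIn M := ⟨s, hmem hds, t, hmem hdt, hs.1, ht.1, hne, hst⟩
  have hcM : c ∈ centres Ω M := mem_centres (hmem hds) hs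
  have hzM : z ∈ centres Ω M := by
    have h1 := smul_mem_centres (hmem hdw) hcM
    rwa [hw.2] at h1
  have hMulti : Multi Ω M := ⟨c, hcM, z, hzM, hz.symm⟩
  refine h.below M hne_top hMulti h4 c hcM (M ⊓ R) (inf_le_inf_left _ h.R_le) ?_
    (h.odd.of_dvd_nat (Subgroup.card_dvd_of_le inf_le_right)) a ⟨hmem hda, ha⟩ z hzM
  intro g hg
  refine Coprime.mem_normalizer_of_forall_conj fun x hx => ⟨?_, ?_⟩
  · exact M.mul_mem (M.mul_mem hg.1 hx.1) (M.inv_mem hg.1)
  · exact (Subgroup.mem_normalizer_iff.1 (h.R_normal hg.2) x).1 hx.2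

/-- An element of prime order `p` not dividing the number of involutions at `c` is centralised by a
swapper of each of its fixed pairs. -/
theorem exists_commute_swap {p : ℕ} [hp : Fact p.Prime] (hpm : ¬ p ∣ (invAt G c).ncard) {z : Ω}
    (hz : z ≠ c) {d : G} (hd : d ∈ two G c z) (hdp : IsPGroup p (Subgroup.zpowers d)) :
    ∃ w ∈ swaps G c z, Commute d w := by
  obtain ⟨W, hW, hle⟩ := exists_sylowOf_ge (Subgroup.zpowers_le.2 hd) hdp
  obtain ⟨w, hw, hwn⟩ := h.base.exists_swap_normalizes hz.symm hW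
  have h1 := h.base.qpart_eq_cls hz.symm hw hW hwn c
  rw [qpart, Nat.factorization_eq_zero_of_not_dvd hpm, pow_zero] at h1
  exact ⟨w, hw, commute_of_ncard_cls_one h1 (hle (Subgroup.mem_zpowers d))⟩

/-- `R` is semiregular off `c`. -/
theorem semireg_R {a : G} (ha : a ∈ R) {z : Ω} (hz : z ≠ c) (haz : a • z = z) : a = 1 := by
  by_contra ha1
  have : Fact r.Prime := ⟨h.prime⟩
  obtain ⟨w, hw, haw⟩ := h.exists_commute_swap h.r_not_dvd hz
    (mem_two_iff.2 ⟨h.R_le ha, haz⟩) (h.R_pGroup.to_le (Subgroup.zpowers_le.2 ha))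
  obtain ⟨s, t, hs, ht, hne, hst⟩ := h.base.exists_invAt_ne h.four c
  exact h.not_fixes hz fun b hb => h.below_fix ha1 (h.R_le ha) hs ht hne hst
    (h.cent s hs a ha).symm (h.cent t ht a ha).symm hz hw haw b hb (h.R_abel a ha b hb)

/-- An element of `two G c z` of `q`-power order, `q` dividing the number of involutions at `c`,
centralises no nontrivial element of `R`. -/
theorem fpf_dvd {q : ℕ} [Fact q.Prime] (hq : q ∣ (invAt G c).ncard) {z : Ω} (hz : z ≠ c) {x : G}
    (hx : x ∈ two G c z) (hx1 : x ≠ 1) (hxq : IsPGroup q (Subgroup.zpowers x)) :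
    ∀ a ∈ R, Commute x a → a = 1 := by
  intro a ha hxa
  have hC := h.ctx hq
  set S := Subgroup.zpowers x with hS
  have hmemfix : ∀ {y : Ω}, x • y = y → y ∈ fixSet Ω S := fun hy g hg => by
    obtain ⟨n, rfl⟩ := Subgroup.mem_zpowers_iff.1 hg
    exact (show x ∈ stabilizer G _ from hy) |> fun h' => zpow_mem h' n
  have hcF := hmemfix (mem_two_iff.1 hx).1
  have hzF := hmemfix (mem_two_iff.1 hx).2
  have haS : a ∈ Subgroup.centralizer (S : Set G) := by
    intro g hg
    obtain ⟨n, rfl⟩ := Subgroup.mem_zpowers_iff.1 hg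
    exact (hxa.zpow_left n).eq
  rcases Nat.lt_or_ge 2 (fixSet Ω S).ncard with h3 | h2
  · obtain ⟨h4, hcen⟩ := hC.lineFix (h.central q) hxq h3
    have hne : Subgroup.centralizer (S : Set G) ≠ ⊤ := fun e => hx1 (h.faith x fun y => by
      obtain ⟨g, rfl⟩ := h.base.trans c y
      have hg : x * g = g * x := (e ▸ Subgroup.mem_top g :
        g ∈ Subgroup.centralizer (S : Set G)) x (Subgroup.mem_zpowers x)
      rw [← mul_smul, hg, mul_smul, (mem_two_iff.1 hx).1])
    have hM : Multi Ω (Subgroup.centralizer (S : Set G)) :=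
      ⟨c, hcen ▸ hcF, z, hcen ▸ hzF, hz.symm⟩
    refine h.semireg_R ha hz (h.below _ hne hM h4 c (hcen ▸ hcF) (_ ⊓ R)
      (inf_le_inf_left _ h.R_le) ?_ (h.odd.of_dvd_nat (Subgroup.card_dvd_of_le inf_le_right))
      a ⟨haS, ha⟩ z (hcen ▸ hzF))
    intro g hg
    exact Coprime.mem_normalizer_of_forall_conj fun y hy =>
      ⟨Subgroup.mul_mem _ (Subgroup.mul_mem _ hg.1 hy.1) (Subgroup.inv_mem _ hg.1),
        (Subgroup.mem_normalizer_iff.1 (h.R_normal hg.2) y).1 hy.2⟩
  · have hpair : fixSet Ω S = {c, z} := hC.fixSet_eq_pair hz.symm hcF hzF h2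
    have h1 : a • z ∈ fixSet Ω S := hmemfix (by rw [← mul_smul, hxa.eq, mul_smul, (mem_two_iff.1 hx).2])
    rw [hpair] at h1
    rcases h1 with e | e
    · refine absurd ?_ hz
      have h2 := congrArg (fun p => a⁻¹ • p) e
      simp only [inv_smul_smul] at h2
      rw [h2, inv_smul_eq_iff]
      exact (h.R_le ha).symm
    · exact h.semireg_R ha hz e

/-- No nontrivial element of `two G c y` centralises `R`. -/
theorem semireg {y : Ω} (hy : y ≠ c) :
    ∀ d ∈ two G c y, (∀ a ∈ R, Commute d a) → d = 1 := by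
  set K : Subgroup G := two G c y ⊓ Subgroup.centralizer (R : Set G) with hK
  suffices hKbot : ∀ d ∈ K, (orderOf d).Prime → False by
    intro d hd hda
    by_contra hd1
    have hdK : d ∈ K := ⟨hd, fun a ha => (hda a ha).symm.eq⟩
    obtain ⟨p, hp, hpd⟩ := Nat.exists_prime_and_dvd (fun e => hd1 (orderOf_eq_one_iff.1 e))
    refine hKbot (d ^ (orderOf d / p)) (pow_mem hdK _) ?_
    rwa [orderOf_pow_orderOf_div (orderOf_pos d).ne' hpd]
  obtain ⟨a, ha, ha1⟩ := (Subgroup.ne_bot_iff_exists_ne_one.1 h.R_ne) |> fun ⟨a, ha⟩ =>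
    (⟨a, a.2, fun e => ha (Subtype.ext e)⟩ : ∃ g ∈ R, g ≠ 1)
  have hfree : ∀ d ∈ K, ∀ q : ℕ, q.Prime → q ∣ (invAt G c).ncard → orderOf d ≠ q := by
    intro d hd q hq hqm he
    have : Fact q.Prime := ⟨hq⟩
    exact ha1 (h.fpf_dvd hqm hy hd.1 (fun e => hq.ne_one (by rw [← he, e, orderOf_one]))
      (IsPGroup.of_card (n := 1) (by rw [Nat.card_zpowers, he, pow_one])) a ha (hd.2 a ha).symm)
  have hKn : two G c y ≤ Subgroup.normalizer (K : Set G) := fun g hg =>
    Coprime.mem_normalizer_of_forall_conj fun x hx =>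
      ⟨Subgroup.mul_mem _ (Subgroup.mul_mem _ hg hx.1) (Subgroup.inv_mem _ hg),
        mem_normalizer_centralizer (h.R_normal hg.1) x hx.2⟩
  have hcomm : ∀ d ∈ K, ∀ u ∈ invAt G c, Commute d u := by
    intro d hd u hu
    have hdvd := ncard_cls_dvd_of_normal (K := K) inf_le_left hKn u
    rw [h.base.cls_two_invAt hy.symm hu] at hdvd
    have hdvd' : (cls K u).ncard ∣ Nat.card K := ⟨_, (ncard_cls_mul K u).symm⟩
    have h1 : (cls K u).ncard = 1 := by
      by_contra hne
      obtain ⟨q, hq, hqd⟩ := Nat.exists_prime_and_dvd hne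
      have : Fact q.Prime := ⟨hq⟩
      obtain ⟨x, hx⟩ := exists_prime_orderOf_dvd_card' (G := K) q (hqd.trans hdvd')
      exact hfree x x.2 q hq (hqd.trans hdvd) (by rw [Subgroup.orderOf_coe]; exact hx)
    exact commute_of_ncard_cls_one h1 hd
  intro d hd hp
  have : Fact (orderOf d).Prime := ⟨hp⟩
  have hpm : ¬ orderOf d ∣ (invAt G c).ncard := fun e => hfree d hd _ hp e rfl
  obtain ⟨w, hw, hdw⟩ := h.exists_commute_swap hpm hy hd.1
    (IsPGroup.of_card (n := 1) (by rw [Nat.card_zpowers, pow_one]))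
  obtain ⟨s, t, hs, ht, hne, hst⟩ := h.base.exists_invAt_ne h.four c
  exact h.not_fixes hy fun b hb => h.below_fix (fun e => hp.ne_one (by rw [e, orderOf_one]))
    (mem_two_iff.1 hd.1).1 hs ht hne hst (hcomm d hd s hs) (hcomm d hd t ht) hy hw hdw b hb
    (hd.2 b hb).symm

/-- The involutions at `c` commute. -/
theorem comm : ∀ s ∈ invAt G c, ∀ t ∈ invAt G c, Commute s t := by
  intro s hs t ht
  obtain ⟨y, hy⟩ := h.base.nontriv c
  set E := invGroup G c with hE
  have hEn : stabilizer G c ≤ Subgroup.normalizer (E : Set G) := fun g hg =>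
    mem_normalizer_invGroup hg
  have hEc : E ≤ Subgroup.centralizer (R : Set G) :=
    (Subgroup.closure_le _).2 fun u hu a ha => (h.cent u hu a ha).symm.eq
  have hfree : ∀ x ∈ E, ∀ q : ℕ, q.Prime → q ∣ (invAt G c).ncard → orderOf x ≠ q := by
    intro x hx q hq hqm he
    have : Fact q.Prime := ⟨hq⟩
    obtain ⟨W, hW, -⟩ := exists_sylowOf_ge (p := q) (bot_le : ⊥ ≤ two G c y) IsPGroup.of_bot
    obtain ⟨-, hWs⟩ := (h.ctx hqm).fix_pair hy.symm hW
    have hxc : Subgroup.zpowers x ≤ stabilizer G c :=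
      Subgroup.zpowers_le.2 (invGroup_le_stabilizer c hx)
    obtain ⟨V, hV, hxV⟩ := exists_sylowOf_ge hxc
      (IsPGroup.of_card (n := 1) (by rw [Nat.card_zpowers, he, pow_one]) : IsPGroup q _)
    obtain ⟨g, hg, e⟩ := exists_conj_sylowOf hWs hV
    obtain ⟨w, hw, hwx⟩ : x ∈ W.map (MulAut.conj g).toMonoidHom :=
      e ▸ hxV (Subgroup.mem_zpowers x)
    have hwc : ∀ a ∈ R, Commute w a := by
      intro a ha
      have h1 : Commute (g * w * g⁻¹) (g * a * g⁻¹) := by
        have h2 := hEc hx (g * a * g⁻¹) ((Subgroup.mem_normalizer_iff.1 (h.R_normal hg) a).1 ha)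
        have h3 : g * w * g⁻¹ = x := hwx
        rw [h3]
        exact h2.symm
      simpa [mul_assoc] using h1.map (MulAut.conj g⁻¹).toMonoidHom
    have hw1 := h.semireg hy w (hW.1 hw) hwc
    rw [hw1, map_one] at hwx
    exact hq.ne_one (by rw [← he, ← hwx, orderOf_one])
  have hdvd := ncard_cls_dvd_of_normal (invGroup_le_stabilizer c) hEn s
  have hcls : cls (stabilizer G c) s = invAt G c := by
    refine Set.Subset.antisymm ?_ ?_
    · rintro _ ⟨g, hg, rfl⟩
      have h1 := conj_mem_invAt (g := g) hs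
      rwa [show g • c = c from hg] at h1
    · rw [← h.base.cls_two_invAt hy.symm hs]
      exact cls_mono inf_le_left s
  rw [hcls] at hdvd
  have hdvd' : (cls E s).ncard ∣ Nat.card E := ⟨_, (ncard_cls_mul E s).symm⟩
  have h1 : (cls E s).ncard = 1 := by
    by_contra hne
    obtain ⟨q, hq, hqd⟩ := Nat.exists_prime_and_dvd hne
    have : Fact q.Prime := ⟨hq⟩
    obtain ⟨x, hx⟩ := exists_prime_orderOf_dvd_card' (G := E) q (hqd.trans hdvd')
    exact hfree x x.2 q hq (hqd.trans hdvd) (by rw [Subgroup.orderOf_coe]; exact hx)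
  exact (commute_of_ncard_cls_one h1 (Subgroup.subset_closure ht : t ∈ E)).symm

/-- An element of prime order of `two G c z` commuting with two involutions at `c` centralises no
nontrivial element of `R`. -/
theorem fpf_pair {z : Ω} (hz : z ≠ c) {d : G} (hd : d ∈ two G c z) (hp : (orderOf d).Prime)
    {s t : G} (hs : s ∈ invAt G c) (ht : t ∈ invAt G c) (hne : s ≠ t) (hds : Commute d s)
    (hdt : Commute d t) : ∀ a ∈ R, Commute d a → a = 1 := by
  intro a ha hda
  have : Fact (orderOf d).Prime := ⟨hp⟩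
  have hd1 : d ≠ 1 := fun e => hp.ne_one (by rw [e, orderOf_one])
  have hpg : IsPGroup (orderOf d) (Subgroup.zpowers d) :=
    IsPGroup.of_card (n := 1) (by rw [Nat.card_zpowers, pow_one])
  by_cases hpm : orderOf d ∣ (invAt G c).ncard
  · exact h.fpf_dvd hpm hz hd hd1 hpg a ha hda
  · obtain ⟨w, hw, hdw⟩ := h.exists_commute_swap hpm hz hd hpg
    exact h.semireg_R ha hz (h.below_fix hd1 (mem_two_iff.1 hd).1 hs ht hne (h.comm s hs t ht)
      hds hdt hz hw hdw a ha hda)

end MinCore

end CfsgLib.BenderTrans
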